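import Groth.Prelude.Def_LocRes
import Groth.Agent.Lib.Helper5.FunFld.Div

/-! Residues of integral elements vanish (helper5). -/

set_option autoImplicit false

namespace LocRes

open LaurentSeries HahnSeries WithZero

variable {F : Type*} [Field F]

/-- The residue of `f dg` vanishes for integral Laurent series. -/
theorem res_mul_D_of_le_one {f g : F⸨X⸩} (hf : Valued.v f ≤ 1) (hg : Valued.v g ≤ 1) :
    res F (f * D F g) = 0 := by
  obtain ⟨U, rfl⟩ := (LaurentSeries.val_le_one_iff_eq_coe F f).1 hf
  obtain ⟨V, rfl⟩ := (LaurentSeries.val_le_one_iff_eq_coe F g).1 hg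
  rw [D_coe, ← PowerSeries.coe_mul, res_apply, PowerSeries.coeff_coe, if_pos (by norm_num)]

end LocRes

namespace FunFld

open WithZero

variable {k K : Type*} [Field k] [Field K] [Algebra k K]

/-- The set of places where `v` is not integral is finite. -/
theorem finite_not_le_one (hK : IsFunctionField k K) (v : K) :
    {P : Place k K | ¬ P.1 v ≤ 1}.Finite := by
  refine (finite_support_ord hK v).subset ?_
  intro P hP
  rw [Function.mem_support]
  intro h0
  apply hP
  by_cases hv : v = 0
  · rw [hv, map_zero]; exact zero_le
  · rw [P.v_eq_exp_neg_ord hv, h0, neg_zero, exp_zero]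

end FunFld
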