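import Groth.Prelude.Def_LocRes

/-! Residue of a logarithmic differential of Laurent series (helper5). -/

set_option autoImplicit false

namespace LocRes

open LaurentSeries HahnSeries WithZero

variable {F : Type*} [Field F]

/-- The valuation of a nonzero Laurent series in terms of its order. -/
theorem valued_eq_exp_neg_order {g : F⸨X⸩} (hg : g ≠ 0) :
    Valued.v g = exp (-g.order) := by
  have h1 : Valued.v g ≤ exp (-g.order) := by
    rw [LaurentSeries.valuation_le_iff_coeff_lt_eq_zero F]
    intro n hn
    exact HahnSeries.coeff_eq_zero_of_lt_order hn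
  have h2 : ¬ Valued.v g ≤ exp (-(g.order + 1)) := by
    intro h
    have := (LaurentSeries.valuation_le_iff_coeff_lt_eq_zero F).1 h g.order (by omega)
    exact hg (HahnSeries.coeff_order_eq_zero.1 this)
  have h0 : Valued.v g ≠ 0 := (Valuation.ne_zero_iff _).2 hg
  rw [← exp_log h0] at h1 h2 ⊢
  rw [exp_le_exp] at h1 h2
  congr 1
  omega

/-- The residue of `g⁻¹ dg` is the order of `g`. -/
theorem res_inv_mul_D {g : F⸨X⸩} (hg : g ≠ 0) :
    res F (g⁻¹ * D F g) = ((g.order : ℤ) : F) := by
  set n := g.order with hn
  set u := g.powerSeriesPart with hu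
  have hgu : g = single n (1 : F) * (u : F⸨X⸩) := (single_order_mul_powerSeriesPart g).symm
  have hu0 : (u : F⸨X⸩) ≠ 0 := by
    intro h0
    rw [hgu, h0, mul_zero] at hg
    exact hg rfl
  have hs0 : single n (1 : F) ≠ 0 := by
    intro h0
    rw [hgu, h0, zero_mul] at hg
    exact hg rfl
  -- the constant coefficient of `u` is a unit
  have hu_unit : IsUnit u := by
    rw [PowerSeries.isUnit_iff_constantCoeff, isUnit_iff_ne_zero]
    have : g.coeff g.order ≠ 0 := fun h => hg (HahnSeries.coeff_order_eq_zero.1 h)
    rw [← PowerSeries.coeff_zero_eq_constantCoeff_apply, hu, LaurentSeries.powerSeriesPart_coeff]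
    simpa using this
  obtain ⟨ui, h1⟩ := hu_unit.exists_right_inv
  have h2 : ui * u = 1 := by rw [mul_comm]; exact h1
  clear_value u
  set u' := u
  have hinv : ((u' : PowerSeries F) : F⸨X⸩)⁻¹ = ((ui : PowerSeries F) : F⸨X⸩) := by
    apply inv_eq_of_mul_eq_one_right
    rw [← PowerSeries.coe_mul, h1, PowerSeries.coe_one]
  have hD : D F g = single n (1 : F) * D F ((u' : PowerSeries F) : F⸨X⸩) +
      single (n - 1) (n • (1 : F)) * ((u' : PowerSeries F) : F⸨X⸩) := by
    conv_lhs => rw [hgu]
    rw [D_apply, D_apply]
    exact derivative_single_mul F n 1 _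
  have hginv : g⁻¹ = single (-n) (1 : F) * ((ui : PowerSeries F) : F⸨X⸩) := by
    rw [hgu, mul_inv, hinv]
    congr 1
    apply inv_eq_of_mul_eq_one_right
    rw [single_mul_single, add_neg_cancel, mul_one]
    rfl
  have hprod : g⁻¹ * D F g =
      (((ui * PowerSeries.derivative F u' : PowerSeries F)) : F⸨X⸩) +
        single (-1) (n • (1 : F)) := by
    rw [hginv, hD, D_coe, mul_add]
    congr 1
    · rw [PowerSeries.coe_mul]
      have : single (-n) (1 : F) * single n (1 : F) = 1 := by
        rw [single_mul_single, neg_add_cancel, mul_one]; rfl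
      calc single (-n) (1 : F) * ((ui : PowerSeries F) : F⸨X⸩) *
            (single n 1 * ((PowerSeries.derivative F u' : PowerSeries F) : F⸨X⸩))
          = (single (-n) (1 : F) * single n (1 : F)) * (((ui : PowerSeries F) : F⸨X⸩) *
              ((PowerSeries.derivative F u' : PowerSeries F) : F⸨X⸩)) := by ring
        _ = _ := by rw [this, one_mul]
    · have e1 : single (-n) (1 : F) * single (n - 1) (n • (1 : F)) = single (-1) (n • (1 : F)) := by
        rw [single_mul_single, one_mul]
        have : -n + (n - 1) = -1 := by ring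
        rw [this]
      have e2 : ((ui : PowerSeries F) : F⸨X⸩) * ((u' : PowerSeries F) : F⸨X⸩) = 1 := by
        rw [← PowerSeries.coe_mul, h2, PowerSeries.coe_one]
      calc single (-n) (1 : F) * ((ui : PowerSeries F) : F⸨X⸩) *
            (single (n - 1) (n • (1 : F)) * ((u' : PowerSeries F) : F⸨X⸩))
          = (single (-n) (1 : F) * single (n - 1) (n • (1 : F))) *
              (((ui : PowerSeries F) : F⸨X⸩) * ((u' : PowerSeries F) : F⸨X⸩)) := by ring
        _ = _ := by rw [e1, e2, mul_one]
  rw [res_apply, hprod, HahnSeries.coeff_add, PowerSeries.coeff_coe, if_pos (by norm_num),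
    zero_add, HahnSeries.coeff_single_same]
  simp

end LocRes
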